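import Groth.Agent.S7776
import Groth.Agent.L07.SyntKoszul
import Mathlib.AlgebraicGeometry.Morphisms.Smooth
import Mathlib.AlgebraicGeometry.FunctionField

/-!
# Generic smoothness in characteristic zero
-/

set_option autoImplicit false

universe u

open CategoryTheory AlgebraicGeometry TopologicalSpace

namespace Groth.L16.GenSmooth

variable {k : Type u} [Field k] [CharZero k]

theorem charZero_functionField {Y : Scheme.{u}} [IsIntegral Y] (qY : Y ⟶ Spec (CommRingCat.of k)) :
    CharZero Y.functionField :=
  haveI : Nonempty (⊤ : Y.Opens).toScheme := ⟨⟨genericPoint Y, trivial⟩⟩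
  let φ := (Scheme.ΓSpecIso (CommRingCat.of k)).inv ≫ qY.appTop ≫ Y.germToFunctionField ⊤
  charZero_of_injective_ringHom φ.hom.injective

/-- A dominant morphism from a smooth variety is smooth over a dense open of the target. -/
theorem exists_smooth_restrict {X Y : Scheme.{u}} (qX : X ⟶ Spec (CommRingCat.of k))
    (qY : Y ⟶ Spec (CommRingCat.of k)) [Smooth qX] [QuasiCompact qX]
    [LocallyOfFiniteType qY] [QuasiCompact qY] [IsIntegral X] [IsIntegral Y]
    (f : X ⟶ Y) (hf : f ≫ qY = qX) [IsDominant f] :
    ∃ V : Y.Opens, Dense (V : Set Y) ∧ Smooth (f ∣_ V) := by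
  haveI : IsLocallyNoetherian X := LocallyOfFiniteType.isLocallyNoetherian qX
  haveI : LocallyOfFiniteType (f ≫ qY) := by rw [hf]; infer_instance
  haveI : LocallyOfFiniteType f := locallyOfFiniteType_of_comp f qY
  haveI : IsLocallyNoetherian Y := LocallyOfFiniteType.isLocallyNoetherian qY
  haveI : LocallyOfFinitePresentation f := inferInstance
  haveI : CompactSpace X := HasAffineProperty.iff_of_isAffine.mp ‹QuasiCompact qX›
  haveI : AlgebraicGeometry.IsNoetherian X := {}
  haveI : QuasiCompact f := inferInstance
  haveI := charZero_functionField qY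
  haveI : PerfectField Y.functionField := inferInstance
  exact Groth.Agent.S7776.result X Y (Groth.L07.SyntKoszul.isRegularLocalRing_of_smooth qX) f

end Groth.L16.GenSmooth
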